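import Cfsg.Prelude
import Cfsg.Agent.H76.CharPFStar

/-!
The distinguished involution is central in a Sylow 2-subgroup.
-/

set_option autoImplicit false

namespace H3.Monster24

open Cfsg

variable {A : Type*} [Group A] [Finite A]

theorem exists_sylow_central24 {z : A} {R : Subgroup (Subgroup.centralizer ({z} : Set A))} {w : ℕ}
    (h : IsExtraspecialCentralizerSetting z R w) :
    ∃ P : Sylow 2 A, z ∈ (P : Subgroup A) ∧ ∀ x ∈ (P : Subgroup A), Commute x z := by
  haveI : Fact (Nat.Prime 2) := ⟨Nat.prime_two⟩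
  obtain ⟨ho, hF, hQ, hcard, -⟩ := h
  have hcent : Subgroup.centralizer (R : Set (Subgroup.centralizer ({z} : Set A))) ≤ R := by
    rw [← hF]; exact Cfsg.Comp.centralizer_fStar_le
  have hzC : z ∈ Subgroup.centralizer ({z} : Set A) :=
    Subgroup.mem_centralizer_singleton_iff.mpr rfl
  have hcz : ∀ c : Subgroup.centralizer ({z} : Set A), c * ⟨z, hzC⟩ = ⟨z, hzC⟩ * c := fun c =>
    Subtype.ext (Subgroup.mem_centralizer_singleton_iff.mp c.2)
  have hzR : (⟨z, hzC⟩ : Subgroup.centralizer ({z} : Set A)) ∈ R :=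
    hcent (Subgroup.mem_centralizer_iff.mpr fun r _ => hcz r)
  have hp : IsPGroup 2 (R.map (Subgroup.centralizer ({z} : Set A)).subtype) :=
    (IsPGroup.of_card hcard).map _
  obtain ⟨P, hP⟩ := hp.exists_le_sylow
  have hzP : z ∈ (P : Subgroup A) := hP ⟨_, hzR, rfl⟩
  have hz1 : z ≠ 1 := fun e => by rw [e, orderOf_one] at ho; omega
  haveI : Nontrivial (P : Subgroup A) := ⟨⟨⟨z, hzP⟩, 1, fun e => hz1 (congrArg Subtype.val e)⟩⟩
  haveI := P.isPGroup'.center_nontrivial
  obtain ⟨⟨w, hw⟩, hw1⟩ := exists_ne (1 : Subgroup.center (P : Subgroup A))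
  refine ⟨P, hzP, fun x hx => ?_⟩
  have hwx : ∀ v (hv : v ∈ (P : Subgroup A)), v * (w : A) = (w : A) * v := fun v hv =>
    congrArg Subtype.val (Subgroup.mem_center_iff.mp hw ⟨v, hv⟩)
  have hwC : (w : A) ∈ Subgroup.centralizer ({z} : Set A) :=
    Subgroup.mem_centralizer_singleton_iff.mpr (hwx z hzP).symm
  have hwR : (⟨(w : A), hwC⟩ : Subgroup.centralizer ({z} : Set A)) ∈ R :=
    hcent (Subgroup.mem_centralizer_iff.mpr fun r hr => Subtype.ext (hwx _ (hP ⟨r, hr, rfl⟩)))
  have hwc : (⟨_, hwR⟩ : R) ∈ Subgroup.center R :=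
    Subgroup.mem_center_iff.mpr fun r => Subtype.ext (Subtype.ext (hwx _ (hP ⟨r.1, r.2, rfl⟩)))
  have hzc : (⟨_, hzR⟩ : R) ∈ Subgroup.center R :=
    Subgroup.mem_center_iff.mpr fun r => Subtype.ext (hcz r.1)
  haveI : Finite R := inferInstance
  have e : (w : A) = z := by
    by_contra hne
    have h3 : ({1, ⟨_, hwc⟩, ⟨_, hzc⟩} : Set (Subgroup.center R)).ncard = 3 := by
      refine Set.ncard_eq_three.mpr ⟨_, _, _, ?_, ?_, ?_, rfl⟩
      · intro e
        refine hw1 (Subtype.ext (Subtype.ext ?_))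
        exact (congrArg (fun v : Subgroup.center R => (((v : R) : Subgroup.centralizer ({z} : Set A)) : A)) e).symm
      · intro e
        exact hz1 (congrArg (fun v : Subgroup.center R => (((v : R) : Subgroup.centralizer ({z} : Set A)) : A)) e).symm
      · intro e
        exact hne (congrArg (fun v : Subgroup.center R => (((v : R) : Subgroup.centralizer ({z} : Set A)) : A)) e)
    have := Set.ncard_le_card ({1, ⟨_, hwc⟩, ⟨_, hzc⟩} : Set (Subgroup.center R))
    rw [h3, hQ.2] at this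
    omega
  rw [← e]
  exact hwx x hx

end H3.Monster24
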