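import Cfsg.Agent.H84.Monster.ThreeMain

/-!
The element of order three of width six: the automorphisms inverting it act faithfully, and not
centrally, on the fixed classes.
-/

set_option autoImplicit false
set_option maxRecDepth 100000

namespace H3.Monster24

open Cfsg H95 H56M H84.Mon H84.Mon.Three

/-- a permutation inverting the permutation of the configuration -/
def invN : ℕ := 645810048575688567162481442630502528

theorem inv_ok : (H90.isPerm invN && H90.preservesCode invN) = true ∧
    ∀ i : Fin 24, H90.img invN (cfg.mv 1 i.val) = cfg.mv 2 (H90.img invN i.val) := by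
  decide +kernel

theorem cand_two : cfg.candOK 2 false = true := by decide +kernel

/-- a word in the generators with few fixed classes -/
def wordA (m : ℕ) : ℕ :=
  actN (genImg.getD 0 []) 12 (actN (genImg.getD 1 []) 12 (actN (genImg.getD 2 []) 12 m))

theorem word_ok : (List.range 4096).all (fun m => decide (wordA m < 4096) &&
    (!decide (wordA m = m) || decide (m = 0 ∨ m = 1826 ∨ m = 2301 ∨ m = 4063))) = true := by
  decide +kernel

theorem omega_ok : actN (genImg.getD 4 []) 12 1826 = 2301 ∧
    actN (genImg.getD 4 []) 12 2301 = 4063 ∧ wordA 1826 = 1826 ∧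
    actN (genImg.getD 4 []) 12 4063 = 1826 := by
  decide +kernel

/-- images of one class -/
def src : List ℕ := [1826, 722, 1253, 758, 2601, 906, 561, 2827, 2797, 370, 499, 4059]

/-- how they arise -/
def srcStep : List (ℕ × ℕ) :=
  [(0, 0), (0, 3), (1, 0), (1, 3), (2, 0), (2, 1), (2, 2), (3, 3), (4, 0), (4, 2), (5, 0)]

/-- combinations giving the basis -/
def srcComb : List ℕ := [2379, 2067, 3342, 1845, 453, 3332, 853, 3915, 1415, 1482, 1371, 1696]

theorem step_ok : ∀ k : Fin 11, (srcStep.getD k.val (0, 0)).1 ≤ k.val ∧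
    (srcStep.getD k.val (0, 0)).2 < 5 ∧
    actN (genImg.getD (srcStep.getD k.val (0, 0)).2 []) 12
      (src.getD (srcStep.getD k.val (0, 0)).1 0) = src.getD (k.val + 1) 0 := by
  decide +kernel

theorem comb_ok : ∀ k : Fin 12, H90.xorSel src (srcComb.getD k.val 0) = 2 ^ k.val := by
  decide +kernel

theorem cvN_pow : ∀ (n j : ℕ), cvN n (2 ^ j) = if j < n then uV j else 0
  | 0, j => by simp [cvN]
  | n + 1, j => by
    rw [cvN, cvN_pow n j, Nat.testBit_two_pow]
    rcases lt_trichotomy j n with h | h | h
    · rw [if_neg (by simpa using h.ne), if_pos h, if_pos (by omega)]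
    · subst h; simp
    · rw [if_neg (by simpa using h.ne'), if_neg (by omega), if_neg (by omega)]

theorem cv_pow {j : ℕ} (h : j < 12) : cv (2 ^ j) = uV j := by
  rw [cv, cvN_pow, if_pos h]

/-- an automorphism inverting the element permutes the fixed vectors -/
theorem inv_fixed {a : Co0} (hc : a * cfg.aut cfg_ok * a⁻¹ = cfg.aut cfg_ok ^ 2) {v : leechLattice}
    (hv : cfg.aut cfg_ok • v = v) : cfg.aut cfg_ok • (a • v) = a • v := by
  have h3 : cfg.aut cfg_ok ^ 4 = cfg.aut cfg_ok := by rw [aut_pow_mod 4]; simp
  have h4 : a * cfg.aut cfg_ok ^ 2 * a⁻¹ = cfg.aut cfg_ok := by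
    rw [← conj_pow, hc, ← pow_mul, h3]
  rw [← mul_smul, ← mul_inv_eq_iff_eq_mul.mp h4, mul_smul, pow_two, mul_smul, hv, hv]

/-- no automorphism inverting the element commutes with the action on the fixed classes -/
theorem no_central_inverting {a : Co0} (hc : a * cfg.aut cfg_ok * a⁻¹ = cfg.aut cfg_ok ^ 2)
    (hcomm : ∀ (i : Fin 5) (m : ℕ), cls (a • gel i • cv m) = cls (gel i • a • cv m))
    (hsq : ∀ m : ℕ, cls (a • a • cv m) = cls (cv m)) : False := by
  have hgel : ∀ (i : Fin 5) {m m' : ℕ}, cls (a • cv m) = cls (cv m') →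
      cls (a • cv (actN (genImg.getD i.val []) 12 m)) =
        cls (cv (actN (genImg.getD i.val []) 12 m')) := fun i m m' h => by
    rw [← cls_smul_congr a (gel_cv i m), hcomm i m, cls_smul_congr (gel i) h, gel_cv]
  obtain ⟨m1, hm1, e1⟩ := exists_mask (v := a • cv 1826)
    (by rw [inv_fixed hc]; exact cvN_fixed 12 1826)
  have hw := hgel 0 (hgel 1 (hgel 2 e1))
  have e2 : cls (a • cv (wordA 1826)) = cls (cv (wordA m1)) := hw
  rw [omega_ok.2.2.1, e1] at e2
  have hall := List.all_eq_true.mp word_ok m1 (List.mem_range.mpr hm1)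
  simp only [Bool.and_eq_true, decide_eq_true_eq, Bool.or_eq_true, Bool.not_eq_true',
    decide_eq_false_iff_not] at hall
  have hfixw : wordA m1 = m1 := cv_inj hall.1 hm1 e2.symm
  have hsq1 : cls (a • cv m1) = cls (cv 1826) := by
    rw [← cls_smul_congr a e1]; exact hsq 1826
  have hu : cls (a • cv 1826) = cls (cv 1826) := by
    rcases (hall.2.resolve_left (not_not_intro hfixw)) with e | e | e | e
    · exfalso
      subst e
      rw [cv_zero, co0_zero] at hsq1
      rw [← cv_zero] at hsq1
      exact absurd (cv_inj (by norm_num) (by norm_num) hsq1) (by norm_num)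
    · rw [e1, e]
    · exfalso
      subst e
      have h := hgel 4 e1
      simp only [show ((4 : Fin 5) : ℕ) = 4 from rfl, omega_ok.1, omega_ok.2.1] at h
      exact absurd (cv_inj (by norm_num) (by norm_num) (h.symm.trans hsq1)) (by norm_num)
    · exfalso
      subst e
      have h := hgel 4 (hgel 4 e1)
      simp only [show ((4 : Fin 5) : ℕ) = 4 from rfl, omega_ok.1, omega_ok.2.1, omega_ok.2.2.2] at h
      exact absurd (cv_inj (by norm_num) (by norm_num) (h.symm.trans hsq1)) (by norm_num)
  have hsrc : ∀ k < 12, cls (a • cv (src.getD k 0)) = cls (cv (src.getD k 0)) := by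
    intro k
    induction k using Nat.strong_induction_on with
    | _ k ih =>
      intro hk
      rcases Nat.eq_zero_or_pos k with e | e
      · subst e; exact hu
      · obtain ⟨h1, h2, h3⟩ := step_ok ⟨k - 1, by omega⟩
        simp only at h1 h2 h3
        have := hgel ⟨_, h2⟩ (ih (srcStep.getD (k - 1) (0, 0)).1 (by omega) (by omega))
        simp only [h3, Nat.sub_add_cancel e] at this
        exact this
  have hxor : ∀ (l : List ℕ), (∀ x ∈ l, cls (a • cv x) = cls (cv x)) → ∀ n,
      cls (a • cv (H90.xorSel l n)) = cls (cv (H90.xorSel l n)) := by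
    intro l
    induction l with
    | nil => intro _ n; rw [H90.xorSel, cv_zero, co0_zero]
    | cons r rs ih =>
      intro hl n
      rw [H90.xorSel]
      have e := cvN_xor 12 (if n % 2 = 1 then r else 0) (H90.xorSel rs (n / 2))
      rw [← cls_add] at e
      show cls (a • cvN 12 _) = cls (cvN 12 _)
      rw [cls_smul_congr a e, co0_add, cls_add, e, cls_add]
      refine congrArg₂ (· + ·) ?_ (ih (fun x hx => hl x (List.mem_cons_of_mem _ hx)) _)
      split
      · exact hl r List.mem_cons_self
      · show cls (a • cv 0) = cls (cv 0)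
        rw [cv_zero, co0_zero]
  have hbasis : ∀ k < 12, cls (a • uV k) = cls (uV k) := fun k hk => by
    rw [← cv_pow hk, ← comb_ok ⟨k, hk⟩]
    refine hxor src (fun x hx => ?_) _
    obtain ⟨n, hn, rfl⟩ := List.mem_iff_getElem.mp hx
    rw [← List.getD_eq_getElem src 0 hn]
    exact hsrc n hn
  have hall' : ∀ n ≤ 12, ∀ m, cls (a • cvN n m) = cls (cvN n m) := by
    intro n
    induction n with
    | zero => intro _ m; rw [cvN, co0_zero]
    | succ n ih =>
      intro hn m
      rw [cvN]
      split
      · rw [co0_add, cls_add, cls_add, hbasis n (by omega), ih (by omega)]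
      · exact ih (by omega) m
  have hcls : ∀ v, cls (cfg.aut cfg_ok • v) = cls v → cls (a • v) = cls v := fun v hv => by
    obtain ⟨m, -, e⟩ := exists_mask hv
    rw [cls_smul_congr a e, e]
    exact hall' 12 le_rfl m
  have h := cfg.kernel_cases cfg_ok cand_two hc (fun v hv => hcls v (by rw [hv]))
    (hcls _ (fix_frame_mono (cfg.perm_mem cfg_ok) H56M.empty_supp))
  exact Bool.false_ne_true h.1

end H3.Monster24
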