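import Cfsg.Agent.H84.Monster.ThreeMain
import Cfsg.Agent.H71.PCompCrit
import Cfsg.Agent.H76.CharPFStar

/-!
The normaliser of a subgroup of order three modulo it, and transport of the large Fischer setting.
-/

set_option autoImplicit false
set_option linter.unusedSectionVars false

namespace H3.Monster24

open Cfsg H95 H56M H84.Mon H12.Monster

universe u

variable {G : Type u} [Group G] [Finite G]

/-- the normaliser -/
abbrev NY (y : G) : Subgroup G := Subgroup.normalizer ((Subgroup.zpowers y : Subgroup G) : Set G)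

/-- the subgroup in the normaliser -/
abbrev YM (y : G) : Subgroup (NY y) := (Subgroup.zpowers y).subgroupOf (NY y)

theorem CY_le_NY (y : G) : CY y ≤ NY y := by
  intro x hx
  rw [Subgroup.mem_normalizer_iff]
  intro w
  constructor
  · intro hw
    rw [← Subgroup.mem_centralizer_iff.mp hx w hw, mul_inv_cancel_right]
    exact hw
  · intro hw
    have h := Subgroup.mem_centralizer_iff.mp hx _ hw
    have : w = x * w * x⁻¹ := by
      refine mul_left_cancel (a := x) ?_
      rw [← h]; group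
    exact this ▸ hw

theorem conj_eq_or {y x : G} (hy : orderOf y = 3) (hx : x ∈ NY y) :
    x * y * x⁻¹ = y ∨ x * y * x⁻¹ = y ^ 2 := by
  have h := (Subgroup.mem_normalizer_iff.mp hx y).mp (Subgroup.mem_zpowers y)
  classical
  obtain ⟨i, hi, he⟩ := mem_zpowers_iff_mem_range_orderOf.mp h |> Finset.mem_image.mp
  rw [Finset.mem_range, hy] at hi
  interval_cases i
  · exfalso
    rw [pow_zero] at he
    have : y = 1 := by simpa using he.symm
    rw [this, orderOf_one] at hy
    omega
  · left; rw [pow_one] at he; exact he.symm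
  · right; exact he.symm

theorem mem_CY_iff_conj {y x : G} : x ∈ CY y ↔ x * y * x⁻¹ = y := by
  rw [H12.Monster.mem_CY, mul_inv_eq_iff_eq_mul]

theorem pow_ne {y : G} (hy : orderOf y = 3) : y ^ 2 ≠ y := fun h => by
  have : y = 1 := by rwa [pow_two, mul_eq_left] at h
  rw [this, orderOf_one] at hy
  omega

theorem mem_NY_of_conj {y x : G} (hy : orderOf y = 3) {k : ℕ} (hx : x * y * x⁻¹ = y ^ k) :
    x ∈ NY y := by
  have hle : (Subgroup.zpowers y).map (MulAut.conj x).toMonoidHom ≤ Subgroup.zpowers y := by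
    rw [MonoidHom.map_zpowers]
    exact Subgroup.zpowers_le.mpr (by
      show x * y * x⁻¹ ∈ _
      rw [hx]; exact Subgroup.npow_mem_zpowers _ _)
  have hfin : Finite (Subgroup.zpowers y) := Nat.finite_of_card_ne_zero (by
    rw [Nat.card_zpowers, hy]; norm_num)
  have he := Subgroup.eq_of_le_of_card_ge hle (by
    rw [Subgroup.card_map_of_injective (MulAut.conj x).injective])
  rw [Subgroup.mem_normalizer_iff]
  intro w
  constructor
  · intro hw
    exact hle ⟨w, hw, rfl⟩
  · intro hw
    rw [← he] at hw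
    obtain ⟨v, hv, e⟩ := hw
    have e' : x * v * x⁻¹ = x * w * x⁻¹ := e
    rw [← mul_left_cancel (mul_right_cancel e')]
    exact hv

/-- the image of the centraliser in the quotient of the normaliser -/
def G0 (y : G) [(YM y).Normal] : Subgroup (NY y ⧸ YM y) :=
  ((CY y).subgroupOf (NY y)).map (QuotientGroup.mk' (YM y))

variable {y : G} [(YM y).Normal]

theorem ker_le_CY : YM y ≤ (CY y).subgroupOf (NY y) := fun x hx => by
  rw [Subgroup.mem_subgroupOf] at hx ⊢
  obtain ⟨k, hk⟩ := hx
  rw [H12.Monster.mem_CY, ← hk]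
  exact ((Commute.refl y).zpow_left k).eq

theorem mem_G0 {x : NY y} : (x : NY y ⧸ YM y) ∈ G0 y ↔ (x : G) ∈ CY y := by
  rw [← Subgroup.mem_subgroupOf, G0, show ((x : NY y ⧸ YM y)) = QuotientGroup.mk' (YM y) x from rfl,
    ← Subgroup.mem_comap, Subgroup.comap_map_eq_self]
  exact (QuotientGroup.ker_mk' _).trans_le ker_le_CY

theorem index_G0 (hy : orderOf y = 3) {h : G} (hh : h * y * h⁻¹ = y ^ 2) : (G0 y).index = 2 := by
  rw [G0, Subgroup.index_map_eq _ (QuotientGroup.mk'_surjective _)
    ((QuotientGroup.ker_mk' _).trans_le ker_le_CY), Subgroup.index_eq_two_iff]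
  refine ⟨⟨h, mem_NY_of_conj hy hh⟩, fun b => ?_⟩
  simp only [Subgroup.mem_subgroupOf, Subgroup.coe_mul, mem_CY_iff_conj]
  have e : (b : G) * h * y * ((b : G) * h)⁻¹ = ((b : G) * y * (b : G)⁻¹) ^ 2 := by
    rw [conj_pow, ← hh]; group
  rw [e]
  rcases conj_eq_or hy b.2 with hb | hb
  · exact Or.inr ⟨hb, by rw [hb]; exact pow_ne hy⟩
  · refine Or.inl ⟨?_, by rw [hb]; exact pow_ne hy⟩
    rw [hb, ← pow_mul, show 2 * 2 = 3 + 1 from rfl, pow_succ, ← hy, pow_orderOf_eq_one, one_mul]

/-- the map from the centraliser onto the subgroup -/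
def toG0 (y : G) [(YM y).Normal] : CY y →* G0 y :=
  ((QuotientGroup.mk' (YM y)).comp (Subgroup.inclusion (CY_le_NY y))).codRestrict (G0 y)
    fun x => mem_G0.mpr x.2

theorem toG0_surjective : Function.Surjective (toG0 y) := by
  rintro ⟨c, x, hx, rfl⟩
  exact ⟨⟨(x : G), Subgroup.mem_subgroupOf.mp hx⟩, Subtype.ext rfl⟩

theorem toG0_ker : (toG0 y).ker = YN y := by
  ext x
  rw [MonoidHom.mem_ker, Subgroup.mem_subgroupOf, Subtype.ext_iff]
  show QuotientGroup.mk' (YM y) _ = 1 ↔ _
  rw [← MonoidHom.mem_ker, QuotientGroup.ker_mk', Subgroup.mem_subgroupOf]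
  rfl

/-- the quotient of the centraliser as a subgroup -/
noncomputable def theta (y : G) [(YN y).Normal] [(YM y).Normal] : (CY y ⧸ YN y) ≃* G0 y :=
  (QuotientGroup.quotientMulEquivOfEq toG0_ker.symm).trans
    (QuotientGroup.quotientKerEquivOfSurjective _ toG0_surjective)

theorem theta_mk [(YN y).Normal] (x : CY y) : theta y (x : CY y ⧸ YN y) = toG0 y x := rfl

/-- transport of a centraliser -/
def cent24 {A B : Type*} [Group A] [Group B] (e : A ≃* B) (z : A) : CZ z ≃* CZ (e z) where
  toFun k := ⟨e k, by rw [mem_CZ, ← map_mul, ← map_mul, mem_CZ.mp k.2]⟩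
  invFun k := ⟨e.symm k, by
    rw [mem_CZ]
    apply e.injective
    rw [map_mul, map_mul, e.apply_symm_apply, mem_CZ.mp k.2]⟩
  left_inv k := by apply Subtype.ext; simp
  right_inv k := by apply Subtype.ext; simp
  map_mul' k l := by apply Subtype.ext; simp

/-- transport of the setting along an isomorphism -/
theorem lf_map {A B : Type u} [Group A] [Group B] (e : A ≃* B) {z : A}
    {R : Subgroup (CZ z)} [R.Normal] (h : IsOfLargeFischerTypeAt z R) :
    ∃ (R' : Subgroup (CZ (e z))) (_ : R'.Normal), IsOfLargeFischerTypeAt (e z) R' ∧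
      ∀ c : CZ (e z), c ∈ R' ↔ ∃ r ∈ R, e (r : A) = (c : B) := by
  obtain ⟨⟨ho, hF, hQ, hcard, g, ⟨hq, hgR⟩, hgne⟩, N, M, hN, hM, hRN, hNM, hcN, ⟨K, _, _, hK, ⟨f⟩⟩, hidx⟩ := h
  let ec : CZ z ≃* CZ (e z) := cent24 e z
  have hs : Function.Surjective ec.toMonoidHom := ec.surjective
  have hmem : ∀ c : CZ (e z), c ∈ R.map ec.toMonoidHom ↔ ∃ r ∈ R, e (r : A) = (c : B) := fun c => by
    constructor
    · rintro ⟨r, hr, rfl⟩; exact ⟨r, hr, rfl⟩
    · rintro ⟨r, hr, he⟩; exact ⟨r, hr, Subtype.ext he⟩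
  have hcardmap : ∀ S : Subgroup (CZ z), Nat.card (S.map ec.toMonoidHom) = Nat.card S := fun S =>
    Subgroup.card_map_of_injective ec.injective
  refine ⟨R.map ec.toMonoidHom, Subgroup.Normal.map inferInstance _ hs,
    ⟨⟨by rw [← ho]; exact orderOf_injective e.toMonoidHom e.injective z,
      by rw [← hF]; exact (H71.fStar_map_equiv ec).symm,
      H68.isExtraspecial_of_equiv (R.equivMapOfInjective _ ec.injective) hQ,
      by rw [hcardmap, hcard], e g, ⟨?_, ?_⟩, ?_⟩,
      N.map ec.toMonoidHom, M.map ec.toMonoidHom, hN.map _ hs, hM.map _ hs,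
      Subgroup.map_mono hRN, Subgroup.map_mono hNM, by rw [hcardmap, hcardmap, hcN],
      ⟨K, inferInstance, inferInstance, hK, ⟨?_⟩⟩, ?_⟩, hmem⟩
  · have h1 := (ec ⟨_, hq⟩).2
    simpa [ec, cent24] using h1
  · rw [hmem]
    exact ⟨⟨_, hq⟩, hgR, by simp⟩
  · rw [← map_inv, ← map_mul, ← map_mul]
    exact fun h => hgne (e.injective h)
  · haveI := hN.map ec.toMonoidHom hs
    let ρ : M →* M.map ec.toMonoidHom := ec.toMonoidHom.subgroupMap M
    let χ := (QuotientGroup.mk' ((N.map ec.toMonoidHom).subgroupOf (M.map ec.toMonoidHom))).comp ρ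
    have hχ : Function.Surjective χ :=
      (QuotientGroup.mk'_surjective _).comp (MonoidHom.subgroupMap_surjective _ _)
    have hk : χ.ker = N.subgroupOf M := by
      ext x
      rw [MonoidHom.mem_ker, Subgroup.mem_subgroupOf]
      show QuotientGroup.mk' _ (ρ x) = 1 ↔ _
      rw [← MonoidHom.mem_ker, QuotientGroup.ker_mk', Subgroup.mem_subgroupOf]
      constructor
      · rintro ⟨v, hv, ev⟩
        exact (ec.injective ev) ▸ hv
      · intro hx; exact ⟨x, hx, rfl⟩
    exact ((QuotientGroup.quotientKerEquivOfSurjective χ hχ).symm.trans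
      (QuotientGroup.quotientMulEquivOfEq hk)).trans f
  · rw [show M.map ec.toMonoidHom = M.map (ec : CZ z →* CZ (e z)) from rfl, Subgroup.index_map_equiv]
    exact hidx

end H3.Monster24
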