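import Cfsg.Agent.H3.Monster24.Commutant
import Cfsg.Agent.H3.Monster24.Quot

/-!
An element inverting the subgroup of order three is not central modulo the extraspecial subgroup.
-/

set_option autoImplicit false
set_option linter.unusedSectionVars false

namespace H3.Monster24

open Cfsg H95 H56M H84.Mon H84.Mon.Three H12.Monster

universe u

variable {G : Type u} [Group G] [Finite G] {z s : G} {Q : Subgroup (CZ z)} [Q.Normal]
  {D : Data z Q} {y : G}

theorem cls_pow_fixed {v : leechLattice} (hv : cls (cfg.aut cfg_ok • v) = cls v) :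
    ∀ j : ℕ, cls (cfg.aut cfg_ok ^ j • v) = cls v
  | 0 => by rw [pow_zero, one_smul]
  | j + 1 => by rw [pow_succ', mul_smul, cls_smul_congr _ (cls_pow_fixed hv j), hv]

theorem lift_triv (S : Setup D s y (cfg.aut cfg_ok) 3) {x q : G} (hq : q ∈ QG Q)
    (hx : q⁻¹ * x ∈ Subgroup.zpowers y) {b : Co0} (hb : D.Lift x b) {v : leechLattice}
    (hv : cls (cfg.aut cfg_ok • v) = cls v) : cls (b • v) = cls v := by
  obtain ⟨j, hj⟩ : ∃ j : ℕ, y ^ j = q⁻¹ * x := by
    classical
    obtain ⟨j, -, hj⟩ := mem_zpowers_iff_mem_range_orderOf.mp hx |> Finset.mem_image.mp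
    exact ⟨j, hj⟩
  have hl : D.Lift x (cfg.aut cfg_ok ^ j) := by
    have := (D.lift_one_iff.mpr hq).mul (lift_pow D S.lift j)
    rwa [one_mul, hj, mul_inv_cancel_left] at this
  rcases hl.unique hb with e | e
  · rw [e]; exact cls_pow_fixed hv j
  · rw [e, mul_smul, cls_smul_congr _ (show cls (negOne • v) = cls v by rw [negOne_smul, cls_neg])]
    exact cls_pow_fixed hv j

theorem invert_lift (S : Setup D s y (cfg.aut cfg_ok) 3) {n : G} (hn : n * y * n⁻¹ = y ^ 2)
    {a : Co0} (ha : D.Lift n a) : a * cfg.aut cfg_ok * a⁻¹ = cfg.aut cfg_ok ^ 2 :=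
  lift_normaliser D cfg cfg_ok cfg_odd S.lift S.ypow ha hn

/-- the condition on an element modulo the subgroup -/
def InR (Q : Subgroup (CZ z)) [Q.Normal] (y x : G) : Prop :=
  ∃ q ∈ QG Q, q⁻¹ * x ∈ Subgroup.zpowers y

theorem not_central_mod (S : Setup D s y (cfg.aut cfg_ok) 3) {n : G} (hnz : n ∈ CZ z)
    (hn : n * y * n⁻¹ = y ^ 2) (hsq : InR Q y (n * n))
    (hcomm : ∀ l, l ∈ CZ z → l * y = y * l → InR Q y (n * l * n⁻¹ * l⁻¹)) : False := by
  obtain ⟨a, ha⟩ := D.exists_lift_of_mem hnz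
  have hc := invert_lift S hn ha
  refine no_central_inverting hc (fun i m => ?_) fun m => ?_
  · obtain ⟨l, hl, hly⟩ := S.exists_lift_comm (mem_CC.mp (gel_mem i))
    obtain ⟨q, hq, hx⟩ := hcomm l hl.1 hly
    have hb := ((ha.mul hl).mul ha.inv).mul hl.inv
    have hf : cfg.aut cfg_ok • gel i • a • cv m = gel i • a • cv m := by
      rw [← mul_smul, (show Commute (gel i) (cfg.aut cfg_ok) from gel_comm i).symm.eq, mul_smul,
        inv_fixed hc (v := cv m) (cvN_fixed 12 m)]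
    have h := lift_triv S hq hx hb (v := gel i • a • cv m) (by rw [hf])
    simpa [mul_smul] using h
  · obtain ⟨q, hq, hx⟩ := hsq
    have h := lift_triv S hq hx (ha.mul ha) (v := cv m) (by rw [cv, cvN_fixed])
    rwa [mul_smul] at h

theorem not_trivial_act (S : Setup D s y (cfg.aut cfg_ok) 3) {n : G} (hnz : n ∈ CZ z)
    (hn : n * y * n⁻¹ = y ^ 2) (hc : ∀ q ∈ QC Q y, n * q * n⁻¹ = q) : False := by
  obtain ⟨a, ha⟩ := D.exists_lift_of_mem hnz
  have hinv := invert_lift S hn ha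
  have ht : ∀ v, cls (cfg.aut cfg_ok • v) = cls v → cls (a • v) = cls v := fun v hv => by
    have h4 := (D.rep_elt v).conj ha
    rw [hc _ (S.rep_mem_QC (D.rep_elt v) hv)] at h4
    exact h4.unique (D.rep_elt v)
  have hf : ∀ m, cls (cfg.aut cfg_ok • cv m) = cls (cv m) := fun m => by rw [cv, cvN_fixed]
  refine no_central_inverting hinv (fun i m => ?_) fun m => ?_
  · rw [cls_smul_congr (gel i) (ht _ (hf m))]
    refine ht _ ?_
    rw [← mul_smul, (show Commute (gel i) (cfg.aut cfg_ok) from gel_comm i).symm.eq, mul_smul]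
    exact cls_smul_congr _ (hf m)
  · rw [cls_smul_congr a (ht _ (hf m))]
    exact ht _ (hf m)

/-- a permutation inverting the permutation, as an automorphism -/
theorem exists_inverting : ∃ a : Co0, a * cfg.aut cfg_ok * a⁻¹ = cfg.aut cfg_ok ^ 2 := by
  have h0 := inv_ok.1
  simp only [Bool.and_eq_true] at h0
  obtain ⟨σ, hσ⟩ := H90.exists_repr h0.1
  have hm : σ ∈ M24 := (H90.mem_M24_iff_preservesCode hσ).mpr h0.2
  have he : σ * cfg.perm cfg_ok = cfg.perm cfg_ok ^ 2 * σ := Equiv.ext fun i => by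
    refine H90.idx_injective (Fin.ext ?_)
    rw [Equiv.Perm.mul_apply, Equiv.Perm.mul_apply, hσ.apply, Equiv.Perm.coe_pow,
      cfg.idx_iter cfg_ok, hσ.apply,
      show cfg.perm cfg_ok i = (cfg.perm cfg_ok)^[1] i from rfl, cfg.idx_iter cfg_ok]
    exact inv_ok.2 (H90.idx i)
  refine ⟨mono σ ∅ hm H56M.empty_supp, ?_⟩
  rw [← mono_pow_perm 2 (M24.pow_mem (cfg.perm_mem cfg_ok) 2), mul_inv_eq_iff_eq_mul, Cfg.aut]
  refine co0_ext fun v => Subtype.ext ?_
  rw [mul_smul, mul_smul, mono_smul, mono_smul, mono_smul, mono_smul, signedPerm_comp,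
    signedPerm_comp, he]
  simp

theorem exists_inverting_elt (S : Setup D s y (cfg.aut cfg_ok) 3) :
    ∃ h : G, h ∈ CZ z ∧ h * y * h⁻¹ = y ^ 2 := by
  obtain ⟨a, ha⟩ := exists_inverting
  obtain ⟨h, hl, hh⟩ := exists_lift_conj D cfg cfg_ok cfg_odd S.lift S.ypow ha
  exact ⟨h, hl.1, hh⟩

end H3.Monster24
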