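import Cfsg.Agent.H3.Monster24.Center
import Cfsg.Agent.H3.Monster24.Outer

/-!
The centraliser of the central involution in the normaliser modulo the subgroup of order three.
-/

set_option autoImplicit false
set_option linter.unusedSectionVars false

namespace H3.Monster24

open Cfsg H95 H56M H84.Mon H84.Mon.Three H12.Monster

universe u

variable {G : Type u} [Group G] [Finite G] {z s : G} {Q : Subgroup (CZ z)} [Q.Normal]
  {D : Data z Q} {y : G}

/-- the large Fischer type in the quotient of the centraliser, with its members -/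
theorem large_at (S : Setup D s y (cfg.aut cfg_ok) 3) [(YN y).Normal] :
    ∃ (Z : CY y ⧸ YN y) (R : Subgroup (CZ Z)) (_ : R.Normal), IsOfLargeFischerTypeAt Z R ∧
      (∀ x : CY y, (x : G) = z → (x : CY y ⧸ YN y) = Z) ∧
      ∀ c : CZ Z, c ∈ R ↔ ∃ x : CY y, (x : G) ∈ QC Q y ∧ (x : CY y ⧸ YN y) = c := by
  obtain ⟨N', M', hN, hM', hNM, hcardN, hidx, ⟨θ, hθs, hθk⟩, hT⟩ := structure_PP
  obtain ⟨Z, R, hR, hset, ⟨e⟩, hZ, hmem⟩ := S.setting (w := 6) (by norm_num) ncard_fix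
    (QuotientGroup.mk' N1) (QuotientGroup.mk'_surjective _)
    (fun a => (QuotientGroup.eq_one_iff a).trans mem_N1) kernel_act hT
  let f : CZ Z →* PP := e.toMonoidHom.comp (QuotientGroup.mk' R)
  have hf : Function.Surjective f := e.surjective.comp (QuotientGroup.mk'_surjective R)
  have hfR : f.ker = R := by
    ext x
    rw [MonoidHom.mem_ker]
    show e (QuotientGroup.mk' R x) = 1 ↔ _
    rw [MulEquiv.map_eq_one_iff]
    exact QuotientGroup.eq_one_iff x
  refine ⟨Z, R, hR, ⟨hset, N'.comap f, M'.comap f, hN.comap f, hM'.comap f, ?_, Subgroup.comap_mono hNM,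
    ?_, ⟨H50.McLU4.K, inferInstance, inferInstance, by rw [H50.McLU4.hK]; norm_num, ?_⟩, ?_⟩, hZ, hmem⟩
  · intro x hx
    rw [Subgroup.mem_comap, MonoidHom.mem_ker.mp (hfR.symm ▸ hx)]
    exact one_mem _
  · haveI := finite_co0
    have h1 := (N'.comap f).card_mul_index
    have h2 := R.card_mul_index
    have h3 := N'.card_mul_index
    rw [Subgroup.index_comap_of_surjective _ hf] at h1
    have h4 : R.index = Nat.card PP := Nat.card_congr e.toEquiv
    rw [h4, ← h3, hcardN] at h2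
    have hi : 0 < N'.index := Nat.pos_of_ne_zero Subgroup.FiniteIndex.index_ne_zero
    rw [← h2] at h1
    exact Nat.eq_of_mul_eq_mul_right hi (h1.trans (by ring))
  · let ρ : M'.comap f →* M' := f.subgroupComap M'
    have hρ : Function.Surjective ρ := fun m => by
      obtain ⟨x, hx⟩ := hf m
      exact ⟨⟨x, show f x ∈ M' by rw [hx]; exact m.2⟩, Subtype.ext hx⟩
    have hk : (θ.comp ρ).ker = (N'.comap f).subgroupOf (M'.comap f) := by
      rw [← MonoidHom.comap_ker, hθk]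
      rfl
    exact ⟨(QuotientGroup.quotientMulEquivOfEq hk.symm).trans
      (QuotientGroup.quotientKerEquivOfSurjective _ (hθs.comp hρ))⟩
  · rw [Subgroup.index_comap_of_surjective _ hf, hidx]

variable [(YM y).Normal]

/-- membership in the centraliser of the image of `z` -/
theorem comm_image (S : Setup D s y (cfg.aut cfg_ok) 3) (zN n : NY y) (hzN : (zN : G) = z) :
    (n : NY y ⧸ YM y) ∈ CZ (zN : NY y ⧸ YM y) ↔ (n : G) ∈ CZ z := by
  rw [mem_CZ, mem_CZ, ← QuotientGroup.mk_mul, ← QuotientGroup.mk_mul]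
  constructor
  · intro h
    rw [QuotientGroup.eq, Subgroup.mem_subgroupOf] at h
    obtain ⟨k, hk⟩ := h
    simp only [Subgroup.coe_mul, InvMemClass.coe_inv, hzN, mul_inv_rev] at hk
    have hzy : Commute z y := S.yz.symm
    have hconj : (n : G)⁻¹ * z * (n : G) = z * y ^ k := by rw [hk]; group
    have h2 : (z * y ^ k) * (z * y ^ k) = 1 := by
      rw [← hconj, show (n : G)⁻¹ * z * n * ((n : G)⁻¹ * z * n) = (n : G)⁻¹ * (z * z) * n by group,
        D.z_sq]
      group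
    have hc : Commute z (y ^ k) := hzy.zpow_right k
    rw [← sq, hc.mul_pow, sq z, D.z_sq, one_mul] at h2
    have h3 : (y ^ k) ^ 3 = 1 := by
      rw [← zpow_natCast, ← zpow_mul, mul_comm, zpow_mul, zpow_natCast, S.ypow, one_zpow]
    have hyk : y ^ k = 1 := by rwa [pow_succ, h2, one_mul] at h3
    rw [hyk, mul_one] at hconj
    calc (n : G) * z = n * ((n : G)⁻¹ * z * n) := by rw [hconj]
      _ = z * n := by group
  · intro h
    exact congrArg _ (Subtype.ext (by simpa [hzN] using h))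

/-- the hypotheses of the recognition of M(24) -/
theorem setting24 (S : Setup D s y (cfg.aut cfg_ok) 3) [(YN y).Normal] :
    (G0 y).index = 2 ∧
    ∃ (z0 : G0 y) (R : Subgroup (CZ z0)) (_ : R.Normal), IsOfLargeFischerTypeAt z0 R ∧
      (generalizedFittingSubgroup ↥(CZ (z0 : NY y ⧸ YM y))).map (Subgroup.subtype _) =
        (R.map (Subgroup.subtype _)).map (G0 y).subtype := by
  haveI : Fact (Nat.Prime 2) := ⟨Nat.prime_two⟩
  obtain ⟨h0, -, hh0⟩ := exists_inverting_elt S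
  have hidx := index_G0 S.ord hh0
  obtain ⟨Z, R₁, hR₁, hF₁, hZ, hmem₁⟩ := large_at S
  have hlf := lf_map (theta y) hF₁
  revert hlf
  generalize hz0 : theta y Z = z0
  intro hlf
  obtain ⟨R, hR, hF, hmemR⟩ := hlf
  refine ⟨hidx, z0, R, hR, hF, ?_⟩
  have hzC : z ∈ CY y := H12.Monster.mem_CY.mpr S.yz.symm
  set zN : NY y := ⟨z, CY_le_NY y hzC⟩ with hzNdef
  have hzX : ((z0 : G0 y) : NY y ⧸ YM y) = (zN : NY y ⧸ YM y) := by
    rw [← hz0, ← hZ ⟨z, hzC⟩ rfl, theta_mk]; rfl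
  set C' := CZ (z0 : NY y ⧸ YM y) with hC'
  have hCz : ∀ n : NY y, (n : NY y ⧸ YM y) ∈ C' ↔ (n : G) ∈ CZ z := fun n => by
    rw [hC', hzX]; exact comm_image S zN n rfl
  -- the inner part
  let ι : CZ z0 →* C' :=
    { toFun := fun c => ⟨((c : G0 y) : NY y ⧸ YM y), by
        rw [hC', mem_CZ]; exact congrArg Subtype.val (mem_CZ.mp c.2)⟩
      map_one' := rfl
      map_mul' := fun _ _ => rfl }
  have hιmem : ∀ (c : C') , (c : NY y ⧸ YM y) ∈ G0 y → ∃ d : CZ z0, ι d = c := fun c hc =>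
    ⟨⟨⟨c, hc⟩, mem_CZ.mpr (Subtype.ext (mem_CZ.mp c.2))⟩, rfl⟩
  -- membership of the image of the extraspecial subgroup
  have hRi : ∀ c : C', c ∈ R.map ι ↔
      ∃ x : NY y, (x : G) ∈ QC Q y ∧ (x : NY y ⧸ YM y) = (c : NY y ⧸ YM y) := by
    intro c
    constructor
    · rintro ⟨d, hd, rfl⟩
      obtain ⟨r, hr, he⟩ := (hmemR d).mp hd
      obtain ⟨x, hx, hxr⟩ := (hmem₁ r).mp hr
      refine ⟨⟨(x : G), CY_le_NY y x.2⟩, hx, ?_⟩
      have : ((theta y (x : CY y ⧸ YN y) : G0 y) : NY y ⧸ YM y) = ((d : G0 y) : NY y ⧸ YM y) := by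
        rw [hxr, he]
      rw [theta_mk] at this
      exact this
    · rintro ⟨x, hx, he⟩
      have hxC : (x : G) ∈ CY y := H12.Monster.mem_CY.mpr (mem_QC.mp hx).2
      have hcG : (c : NY y ⧸ YM y) ∈ G0 y := he ▸ mem_G0.mpr hxC
      obtain ⟨d, rfl⟩ := hιmem c hcG
      refine ⟨d, (hmemR d).mpr ?_, rfl⟩
      have hθ : theta y (⟨(x : G), hxC⟩ : CY y) = (d : G0 y) := Subtype.ext he
      have hrZ : ((⟨(x : G), hxC⟩ : CY y) : CY y ⧸ YN y) ∈ CZ Z := by
        rw [mem_CZ]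
        apply (theta y).injective
        rw [map_mul, map_mul, hθ, hz0]
        exact mem_CZ.mp d.2
      exact ⟨⟨_, hrZ⟩, (hmem₁ _).mpr ⟨_, hx, rfl⟩, hθ⟩
  have hRG : ∀ c ∈ R.map ι, (c : NY y ⧸ YM y) ∈ G0 y := by
    rintro _ ⟨d, -, rfl⟩; exact (d : G0 y).2
  have hInR : ∀ x : NY y, ∀ (hx : (x : NY y ⧸ YM y) ∈ C'), (⟨_, hx⟩ : C') ∈ R.map ι → InR Q y (x : G) := by
    intro x hx h
    obtain ⟨q, hq, he⟩ := (hRi _).mp h
    refine ⟨q, (mem_QC.mp hq).1, ?_⟩
    have he' : (q : NY y ⧸ YM y) = (x : NY y ⧸ YM y) := he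
    exact (QuotientGroup.eq.mp he' :)
  set R₂ : Subgroup C' := R.map ι with hR₂
  haveI hR₂n : R₂.Normal := ⟨fun c hc d => by
    obtain ⟨q, hq, he⟩ := (hRi c).mp hc
    obtain ⟨n, hn⟩ := QuotientGroup.mk_surjective (d : NY y ⧸ YM y)
    have hnz : (n : G) ∈ CZ z := (hCz n).mp (hn ▸ d.2)
    refine (hRi _).mpr ⟨n * q * n⁻¹, mem_QC.mpr ⟨?_, ?_⟩, ?_⟩
    · simpa using QG_normal hnz (mem_QC.mp hq).1
    · have hqy : Commute (q : G) y := (mem_QC.mp hq).2
      have h1 : Commute ((n : G) * q * (n : G)⁻¹) ((n : G) * y * (n : G)⁻¹) := by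
        have := hqy.map (MulAut.conj (n : G)).toMonoidHom
        simpa using this
      rcases conj_eq_or S.ord n.2 with e | e
      · simpa [e] using h1.eq
      · rw [e] at h1
        have h4 := h1.pow_right 2
        rw [← pow_mul, show 2 * 2 = 3 + 1 from rfl, pow_succ, S.ypow, one_mul] at h4
        simpa using h4.eq
    · show _ = (d : NY y ⧸ YM y) * c * (d : NY y ⧸ YM y)⁻¹
      rw [QuotientGroup.mk_mul, QuotientGroup.mk_mul, QuotientGroup.mk_inv, hn, he]⟩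
  have hFR : generalizedFittingSubgroup (CZ z0) = R := hF.1.2.1
  have hRp : IsPGroup 2 R₂ := (IsPGroup.of_card hF.1.2.2.2.1).map _
  have hR2le : R₂ ≤ pCore 2 C' := le_sSup ⟨hR₂n, hRp⟩
  haveI hPn : (pCore 2 C').Normal := H1.pCore_normal' 2 C'
  have hPp : IsPGroup 2 (pCore 2 C') := H1.isPGroup_pCore 2 C'
  have hin : ∀ d ∈ pCore 2 C', (d : NY y ⧸ YM y) ∈ G0 y → d ∈ R₂ := by
    intro d hd hdG
    obtain ⟨e, rfl⟩ := hιmem d hdG
    refine ⟨e, ?_, rfl⟩
    have hι : Function.Injective ι := fun a b h =>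
      Subtype.ext (Subtype.ext (congrArg (fun v : C' => (v : NY y ⧸ YM y)) h))
    rw [← hFR]
    exact Cfsg.Comp.fitting_le_fStar ((Cfsg.Comp.pCore_le_fitting 2)
      ((le_sSup (show (pCore 2 C').comap ι ∈ {K : Subgroup (CZ z0) | K.Normal ∧ IsPGroup 2 K} from
        ⟨hPn.comap ι, hPp.comap_of_injective ι hι⟩) : (pCore 2 C').comap ι ≤ pCore 2 (CZ z0)) hd))
  -- lifts
  have hout : ∀ n : NY y, (n : NY y ⧸ YM y) ∉ G0 y → (n : G) * y * (n : G)⁻¹ = y ^ 2 := by
    intro n hn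
    refine (conj_eq_or S.ord n.2).resolve_left fun e => hn (mem_G0.mpr (mem_CY_iff_conj.mpr e))
  have hcore : pCore 2 C' = R₂ := by
    refine le_antisymm (fun d hd => ?_) hR2le
    by_cases hdG : (d : NY y ⧸ YM y) ∈ G0 y
    · exact hin d hd hdG
    exfalso
    obtain ⟨n, hn⟩ := QuotientGroup.mk_surjective (d : NY y ⧸ YM y)
    have hnz : (n : G) ∈ CZ z := (hCz n).mp (hn ▸ d.2)
    have hny := hout n (hn ▸ hdG)
    refine not_central_mod S hnz hny ?_ ?_
    · have hG : ((d * d : C') : NY y ⧸ YM y) ∈ G0 y := by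
        show (d : NY y ⧸ YM y) * d ∈ G0 y
        exact Subgroup.mul_self_mem_of_index_two hidx _
      have h := hin _ (mul_mem hd hd) hG
      have e : ((n * n : NY y) : NY y ⧸ YM y) = ((d * d : C') : NY y ⧸ YM y) := by
        rw [QuotientGroup.mk_mul, hn]; rfl
      exact hInR (n * n) (e ▸ (d * d).2) (by convert h using 1; exact Subtype.ext e)
    · intro l hlz hly
      set lN : NY y := ⟨l, CY_le_NY y (H12.Monster.mem_CY.mpr hly)⟩ with hlN
      have hlG : (lN : NY y ⧸ YM y) ∈ G0 y := mem_G0.mpr (H12.Monster.mem_CY.mpr hly)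
      set e' : C' := ⟨_, (hCz lN).mpr hlz⟩ with he'
      have hG : ((d * e' * d⁻¹ * e'⁻¹ : C') : NY y ⧸ YM y) ∈ G0 y := by
        haveI := Subgroup.normal_of_index_eq_two hidx
        show (d : NY y ⧸ YM y) * (lN : NY y ⧸ YM y) * (d : NY y ⧸ YM y)⁻¹ * (lN : NY y ⧸ YM y)⁻¹ ∈ G0 y
        exact mul_mem (Subgroup.Normal.conj_mem inferInstance _ hlG _) (inv_mem hlG)
      have hP : d * e' * d⁻¹ * e'⁻¹ ∈ pCore 2 C' := by
        rw [mul_assoc, mul_assoc, ← mul_assoc e']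
        exact mul_mem hd (hPn.conj_mem _ (inv_mem hd) _)
      have h := hin _ hP hG
      have e : ((n * lN * n⁻¹ * lN⁻¹ : NY y) : NY y ⧸ YM y) =
          ((d * e' * d⁻¹ * e'⁻¹ : C') : NY y ⧸ YM y) := by
        simp only [QuotientGroup.mk_mul, QuotientGroup.mk_inv, hn]
        rfl
      exact hInR (n * lN * n⁻¹ * lN⁻¹) (e ▸ (d * e' * d⁻¹ * e'⁻¹).2)
        (by convert h using 1; exact Subtype.ext e)
  have hcent : Subgroup.centralizer (R₂ : Set C') ≤ R₂ := by
    intro d hd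
    by_cases hdG : (d : NY y ⧸ YM y) ∈ G0 y
    · obtain ⟨e, rfl⟩ := hιmem d hdG
      refine ⟨e, ?_, rfl⟩
      have : e ∈ Subgroup.centralizer (R : Set (CZ z0)) := by
        refine Subgroup.mem_centralizer_iff.mpr fun r hr => ?_
        have h := Subgroup.mem_centralizer_iff.mp hd (ι r) ⟨r, hr, rfl⟩
        exact Subtype.ext (Subtype.ext (congrArg (fun v : C' => (v : NY y ⧸ YM y)) h))
      rw [SetLike.mem_coe, ← hFR]
      exact Cfsg.Comp.centralizer_fStar_le (by rw [hFR]; exact this)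
    exfalso
    obtain ⟨n, hn⟩ := QuotientGroup.mk_surjective (d : NY y ⧸ YM y)
    have hnz : (n : G) ∈ CZ z := (hCz n).mp (hn ▸ d.2)
    refine not_trivial_act S hnz (hout n (hn ▸ hdG)) fun q hq => ?_
    have hqC : q ∈ CY y := H12.Monster.mem_CY.mpr (mem_QC.mp hq).2
    set qN : NY y := ⟨q, CY_le_NY y hqC⟩
    have hqz : q ∈ CZ z := coe_mem_CZ (mem_QC.mp hq).1
    set c : C' := ⟨_, (hCz qN).mpr hqz⟩
    have h := Subgroup.mem_centralizer_iff.mp hd c ((hRi c).mpr ⟨qN, hq, rfl⟩)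
    have h' : ((n * qN : NY y) : NY y ⧸ YM y) = (qN * n : NY y) := by
      rw [QuotientGroup.mk_mul, QuotientGroup.mk_mul, hn]
      exact (congrArg (fun v : C' => (v : NY y ⧸ YM y)) h).symm
    have h2 : ((n : G) * q)⁻¹ * (q * n) ∈ Subgroup.zpowers y := (QuotientGroup.eq.mp h' :)
    have hn' : (n : G) ∈ NY y := n.2
    have h3 : (n : G) * (((n : G) * q)⁻¹ * (q * n)) * (n : G)⁻¹ ∈ Subgroup.zpowers y :=
      (Subgroup.mem_normalizer_iff.mp hn' _).mp h2
    rw [show (n : G) * (((n : G) * q)⁻¹ * (q * n)) * (n : G)⁻¹ = ((n : G) * q⁻¹ * (n : G)⁻¹) * q by group] at h3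
    obtain ⟨k, hk⟩ := h3
    have hk' : y ^ k = (n : G) * q⁻¹ * (n : G)⁻¹ * q := hk
    have hQ : y ^ k ∈ QG Q := hk' ▸ mul_mem (QG_normal hnz (inv_mem (mem_QC.mp hq).1)) (mem_QC.mp hq).1
    rw [S.zpow_mem_QG hQ] at hk'
    calc (n : G) * q * (n : G)⁻¹ = ((n : G) * q⁻¹ * (n : G)⁻¹)⁻¹ := by group
      _ = q := by rw [mul_eq_one_iff_eq_inv.mp hk'.symm, inv_inv]
  rw [H76.fStar_eq_pCore_iff.mpr (by rw [hcore]; exact hcent), hcore, hR₂, Subgroup.map_map,
    Subgroup.map_map]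
  rfl

end H3.Monster24
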